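import Cfsg.Agent.S1754
import Cfsg.Agent.ProdFusion.Main
import Cfsg.Agent.Fusion.PGroup
import Cfsg.Agent.Core.PCore

/-!
A standard subgroup of even order with centre of odd order in a simple group: some involution of its
centraliser has a conjugate in the normaliser outside the centraliser.

Otherwise a Sylow 2-subgroup of the normaliser is one of the group, the normaliser controls the
fusion of its 2-elements, and the parts in the subgroup and in the centraliser are commuting
strongly closed subgroups, whose normal closures then commute modulo the odd core.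
-/

set_option autoImplicit false
set_option linter.style.haveILetI false

namespace Cfsg.Agent.StdPair

open Subgroup

variable {G : Type*} [Group G] [Finite G] {L : Subgroup G}

/-- An element carrying an involution of the centraliser into it normalises the subgroup. -/
theorem mem_normalizer_of_conj (hL : Cfsg.IsStandardSubgroup L) {z g : G} (hz : orderOf z = 2)
    (hzK : z ∈ centralizer (L : Set G)) (hg : g * z * g⁻¹ ∈ centralizer (L : Set G)) :
    g ∈ normalizer (L : Set G) := by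
  obtain ⟨-, ⟨-, ht⟩, -, hnorm⟩ := hL
  rw [hnorm]
  by_contra hN
  have hodd := ht g hN
  have hmem : g * z * g⁻¹ ∈ centralizer (L : Set G) ⊓
      (centralizer (L : Set G)).map (MulAut.conj g).toMonoidHom := ⟨hg, z, hzK, rfl⟩
  refine (Nat.not_even_iff_odd.2 hodd) (even_iff_two_dvd.2 ?_)
  rw [← hz, ← MulEquiv.orderOf_eq (MulAut.conj g) z, MulAut.conj_apply,
    ← Subgroup.orderOf_mk (H := centralizer (L : Set G) ⊓
      (centralizer (L : Set G)).map (MulAut.conj g).toMonoidHom) _ hmem]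
  exact orderOf_dvd_natCard _

/-- The centraliser of an involution of the centraliser normalises the subgroup. -/
theorem centralizer_le (hL : Cfsg.IsStandardSubgroup L) {z : G} (hz : orderOf z = 2)
    (hzK : z ∈ centralizer (L : Set G)) : centralizer ({z} : Set G) ≤ normalizer (L : Set G) :=
  (S1754.result L hL z hz hzK).1

/-- A 2-subgroup is the smaller one when no outside element normalises it. -/
theorem le_of_no_normalizing {U W : Subgroup G} (hU : IsPGroup 2 U) (hWU : W ≤ U)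
    (h : ∀ u ∈ U, u ∈ normalizer (W : Set G) → u ∈ W) : U ≤ W := by
  by_contra hle
  have : Fact (Nat.Prime 2) := ⟨Nat.prime_two⟩
  haveI := hU.isNilpotent
  have hne : W.subgroupOf U < ⊤ := lt_top_iff_ne_top.2 fun e =>
    hle fun x hx => (e ▸ mem_top (⟨x, hx⟩ : U) :)
  obtain ⟨⟨s, hsU⟩, hs, hsW⟩ := SetLike.exists_of_lt (Group.normalizerCondition_of_isNilpotent _ hne)
  refine hsW (h s hsU (mem_normalizer_iff.2 fun y => ⟨fun hy => ?_, fun hy => ?_⟩))
  · exact (mem_normalizer_iff.1 hs ⟨y, hWU hy⟩).1 hy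
  · have hyU : y ∈ U := by
      have := mul_mem (mul_mem (inv_mem hsU) (hWU hy)) hsU
      simpa [mul_assoc] using this
    exact (mem_normalizer_iff.1 hs ⟨y, hyU⟩).2 hy

/-- Some involution of the centraliser has a conjugate in the normaliser outside the centraliser. -/
theorem exists_outside [IsSimpleGroup G] (hG : ¬ IsMulCommutative G)
    (hL : Cfsg.IsStandardSubgroup L) (h2 : 2 ∣ Nat.card L)
    (hodd : Odd (Nat.card (L ⊓ centralizer (L : Set G) : Subgroup G))) :
    ∃ z ∈ centralizer (L : Set G), orderOf z = 2 ∧ ∃ g : G,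
      g * z * g⁻¹ ∈ normalizer (L : Set G) ∧ g * z * g⁻¹ ∉ centralizer (L : Set G) := by
  have : Fact (Nat.Prime 2) := ⟨Nat.prime_two⟩
  by_contra hcon
  push Not at hcon
  set K := centralizer (L : Set G) with hK
  set N := normalizer (L : Set G) with hN
  have key : ∀ z ∈ K, orderOf z = 2 → ∀ g : G, g * z * g⁻¹ ∈ N → g ∈ N := fun z hz h g hg =>
    mem_normalizer_of_conj hL h hz (hcon z hz h g hg)
  have hKN : ∀ n ∈ N, ∀ k ∈ K, n * k * n⁻¹ ∈ K := fun n hn k hk => by
    have hn' : n ∈ normalizer (K : Set G) := hL.2.2.2 ▸ hn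
    exact (mem_normalizer_iff.1 hn' k).1 hk
  -- every 2-subgroup containing an involution of the centraliser normalises the subgroup
  have two_le : ∀ U : Subgroup G, IsPGroup 2 U → ∀ z ∈ K, orderOf z = 2 → z ∈ U → U ≤ N := by
    intro U hU z hz hz2 hzU
    refine le_trans (le_of_no_normalizing hU (inf_le_left : U ⊓ N ≤ U) ?_) inf_le_right
    intro u huU hu
    have hzN : z ∈ U ⊓ N := ⟨hzU, centralizer_le hL hz2 hz (mem_centralizer_singleton_iff.2 rfl)⟩
    exact ⟨huU, key z hz hz2 u ((mem_normalizer_iff.1 hu z).1 hzN).2⟩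
  -- a Sylow subgroup meeting both
  obtain ⟨a, ha⟩ := exists_prime_orderOf_dvd_card' 2 h2
  rw [← Subgroup.orderOf_coe] at ha
  obtain ⟨-, ⟨heven, -⟩, -, -⟩ := id hL
  obtain ⟨z₀, hz₀⟩ := exists_prime_orderOf_dvd_card' 2 (even_iff_two_dvd.1 heven)
  rw [← Subgroup.orderOf_coe] at hz₀
  have hcomm : Commute (z₀ : G) (a : G) := (mem_centralizer_iff.1 z₀.2 a a.2).symm
  have hp : ∀ {x : G}, orderOf x = 2 → IsPGroup 2 (zpowers x) := fun h =>
    IsPGroup.of_card (n := 1) (by rw [Nat.card_zpowers, h, pow_one])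
  have hsup : IsPGroup 2 (zpowers (z₀ : G) ⊔ zpowers (a : G) : Subgroup G) :=
    (hp hz₀).to_sup_of_normal_right' (hp ha) (zpowers_le.2 (mem_normalizer_iff.2 fun y => by
      constructor
      · rintro ⟨i, rfl⟩
        exact ⟨i, by rw [← conj_zpow, hcomm.eq, mul_inv_cancel_right]⟩
      · rintro ⟨i, hi⟩
        refine ⟨i, ?_⟩
        replace hi : (a : G) ^ i = z₀ * y * (z₀ : G)⁻¹ := hi
        show (a : G) ^ i = y
        have : (z₀ : G)⁻¹ * (a : G) ^ i * z₀ = y := by rw [hi]; group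
        rw [← this, mul_assoc, ← (hcomm.zpow_right i).eq, inv_mul_cancel_left]))
  obtain ⟨P, hP⟩ := hsup.exists_le_sylow
  have hz₀P : (z₀ : G) ∈ P := hP (mem_sup_left (mem_zpowers _))
  have haP : (a : G) ∈ P := hP (mem_sup_right (mem_zpowers _))
  have hPN : (P : Subgroup G) ≤ N := two_le P P.2 z₀ z₀.2 hz₀ hz₀P
  -- a central involution in the centraliser
  obtain ⟨z, hzmemP, hz, hz2, hzP⟩ : ∃ z ∈ (P : Subgroup G), z ∈ K ∧ orderOf z = 2 ∧ ∀ x ∈ (P : Subgroup G), x * z = z * x := by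
    have hB : (P : Subgroup G) ⊓ K ≤ P := inf_le_left
    haveI : (((P : Subgroup G) ⊓ K).subgroupOf P).Normal := ⟨fun b hb g => mem_subgroupOf.2
      ⟨(g * b * g⁻¹).2, hKN g (hPN g.2) b (mem_subgroupOf.1 hb).2⟩⟩
    have h1 := Fusion.pGroup_inf_center_ne_bot P.2 (((P : Subgroup G) ⊓ K).subgroupOf P) (fun e => by
      have : (⟨z₀, hz₀P⟩ : (P : Subgroup G)) ∈ ((P : Subgroup G) ⊓ K).subgroupOf P :=
        mem_subgroupOf.2 ⟨hz₀P, z₀.2⟩
      rw [e, mem_bot] at this
      have := congrArg Subtype.val this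
      rw [show (z₀ : G) = 1 from this, orderOf_one] at hz₀
      norm_num at hz₀)
    haveI := (nontrivial_iff_ne_bot _).2 h1
    obtain ⟨m, hm0, hm⟩ := (P.2.to_subgroup _).nontrivial_iff_card.1
      (inferInstance : Nontrivial ((((P : Subgroup G) ⊓ K).subgroupOf P) ⊓ center P : Subgroup P))
    obtain ⟨w, hw⟩ := exists_prime_orderOf_dvd_card' 2 (hm ▸ dvd_pow_self 2 hm0.ne')
    rw [← Subgroup.orderOf_coe, ← Subgroup.orderOf_coe] at hw
    exact ⟨_, w.1.2, (mem_subgroupOf.1 w.2.1).2, hw, fun x hx =>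
      congrArg Subtype.val (mem_center_iff.1 w.2.2 ⟨x, hx⟩)⟩
  -- the normaliser controls fusion
  have fusion : ∀ x ∈ (P : Subgroup G), ∀ g : G, g * x * g⁻¹ ∈ P →
      ∃ n ∈ N, n * x * n⁻¹ = g * x * g⁻¹ := by
    intro x hx g hy
    set y := g * x * g⁻¹ with hydef
    set C := centralizer ({y} : Set G) with hC
    have hzC : z ∈ C := mem_centralizer_singleton_iff.2 (hzP y hy).symm
    have hgzC : g * z * g⁻¹ ∈ C := mem_centralizer_singleton_iff.2 (by
      rw [hydef]
      calc g * z * g⁻¹ * (g * x * g⁻¹) = g * (z * x) * g⁻¹ := by group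
        _ = g * (x * z) * g⁻¹ := by rw [hzP x hx]
        _ = _ := by group)
    have hpz : ∀ {w : G}, orderOf w = 2 → w ∈ C → IsPGroup 2 ((zpowers w).subgroupOf C) :=
      fun hw hwC => (hp hw).of_equiv (subgroupOfEquivOfLe (zpowers_le.2 hwC)).symm
    obtain ⟨U, hU⟩ := (hpz hz2 hzC).exists_le_sylow
    obtain ⟨U', hU'⟩ := (hpz ((MulEquiv.orderOf_eq (MulAut.conj g) z).trans hz2) hgzC).exists_le_sylow
    obtain ⟨c, hc⟩ := MulAction.exists_smul_eq C U' U
    have hUN : (U : Subgroup C).map C.subtype ≤ N := two_le _ (U.2.map C.subtype) z hz hz2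
      ⟨⟨z, hzC⟩, hU (mem_subgroupOf.2 (mem_zpowers z)), rfl⟩
    have hmem : c * ⟨_, hgzC⟩ * c⁻¹ ∈ (U : Subgroup C) := by
      rw [← hc, Sylow.smul_def, Sylow.pointwise_smul_def]
      exact Subgroup.smul_mem_pointwise_smul _ (MulAut.conj c) _
        (hU' (mem_subgroupOf.2 (mem_zpowers _)))
    have hn : (c : G) * g ∈ N := key z hz hz2 _ (by
      have := hUN ⟨_, hmem, rfl⟩
      rwa [show ((c : G) * g) * z * ((c : G) * g)⁻¹ = (c : G) * (g * z * g⁻¹) * (c : G)⁻¹ by group])
    refine ⟨_, hn, ?_⟩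
    calc (c : G) * g * x * ((c : G) * g)⁻¹ = (c : G) * y * (c : G)⁻¹ := by rw [hydef]; group
      _ = y := by rw [mem_centralizer_singleton_iff.1 c.2, mul_inv_cancel_right]
  have hsc : ∀ M : Subgroup G, (∀ n ∈ N, ∀ x ∈ M, n * x * n⁻¹ ∈ M) →
      Cfsg.IsStronglyClosed ((P : Subgroup G) ⊓ M) (P : Subgroup G) := by
    refine fun M hM => ⟨inf_le_left, fun x hx g hg => ⟨hg, ?_⟩⟩
    obtain ⟨n, hn, e⟩ := fusion x hx.1 g hg
    rw [← e]
    exact hM n hn x hx.2
  have hset : ProdFusion.Setting P ((P : Subgroup G) ⊓ K) ((P : Subgroup G) ⊓ L) := by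
    refine ⟨hsc K hKN, hsc L fun n hn x hx => (mem_normalizer_iff.1 hn x).1 hx,
      fun x hx y hy => (mem_centralizer_iff.1 hx.2 y hy.2).symm, (eq_bot_iff_forall _).2 ?_⟩
    rintro x ⟨⟨hxP, hxK⟩, -, hxL⟩
    obtain ⟨j, hj⟩ := IsPGroup.iff_orderOf.1 P.2 ⟨x, hxP⟩
    rw [Subgroup.orderOf_mk] at hj
    have hdvd : orderOf x ∣ Nat.card (L ⊓ K : Subgroup G) := by
      rw [← Subgroup.orderOf_mk (H := L ⊓ K) x ⟨hxL, hxK⟩]
      exact orderOf_dvd_natCard _
    have h1 := Nat.dvd_gcd hdvd dvd_rfl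
    have hco : Nat.Coprime (Nat.card (L ⊓ K : Subgroup G)) (orderOf x) := by
      rw [hj]; exact (Nat.coprime_two_right.2 hodd).pow_right j
    rw [hco.gcd_eq_one, Nat.dvd_one, orderOf_eq_one_iff] at h1
    exact h1
  have htop : ∀ {S : Subgroup G} {x : G}, x ∈ S → orderOf x = 2 →
      normalClosure (S : Set G) = ⊤ := fun {S x} hx h2' =>
    (normalClosure_normal (s := (S : Set G))).eq_bot_or_eq_top.resolve_left fun e => by
      have := subset_normalClosure (s := (S : Set G)) hx
      rw [e] at this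
      rw [show x = 1 from this, orderOf_one] at h2'
      norm_num at h2'
  have hle := ProdFusion.commutator_normalClosure_le hset
  rw [htop (show z ∈ (P : Subgroup G) ⊓ K from ⟨hzmemP, hz⟩) hz2, htop (show (a : G) ∈ (P : Subgroup G) ⊓ L from ⟨haP, a.2⟩) ha] at hle
  haveI : (Cfsg.oddCore G).Normal := Core.pPrimeCore_normal
  rcases (inferInstance : (Cfsg.oddCore G).Normal).eq_bot_or_eq_top with h | h
  · rw [h, le_bot_iff] at hle
    exact hG ⟨⟨fun x y => commutatorElement_eq_one_iff_mul_comm.1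
      ((eq_bot_iff_forall _).1 hle _ (commutator_mem_commutator (mem_top x) (mem_top y)))⟩⟩
  · have hc := Core.coprime_card_pPrimeCore (G := G) (p := 2)
    rw [show Cfsg.pPrimeCore 2 G = ⊤ from h, Subgroup.card_top] at hc
    have hd : (2 : ℕ) ∣ Nat.card G := ha ▸ orderOf_dvd_natCard (a : G)
    exact absurd (Nat.dvd_gcd hd dvd_rfl) (by rw [hc.gcd_eq_one]; norm_num)

end Cfsg.Agent.StdPair
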